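import Mathlib

/-! Counting points in the geometric fibres of a finite etale morphism. -/

set_option autoImplicit false

universe u

open CategoryTheory CategoryTheory.Limits AlgebraicGeometry TopologicalSpace

namespace SplitCover

/-- Over a separably closed field the rank of a finite etale scheme is its number of points. -/
theorem finrank_eq_card {Ω : Type u} [Field Ω] [IsSepClosed Ω] {Z : Scheme.{u}} (f : Z ⟶ Spec (CommRingCat.of Ω))
    [IsFinite f] [Etale f] (y : Spec (CommRingCat.of Ω)) : f.finrank y = Nat.card Z := by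
  haveI : IsAffine Z := isAffine_of_isAffineHom f
  obtain ⟨σ, hσ⟩ := Spec.map_surjective (Z.isoSpec.inv ≫ f)
  let B := Γ(Z, ⊤)
  letI : Algebra Ω B := σ.hom.toAlgebra
  have hfin : σ.hom.Finite := (IsFinite.SpecMap_iff σ).mp (hσ ▸ (inferInstance : IsFinite (Z.isoSpec.inv ≫ f)))
  haveI : Module.Finite Ω B := RingHom.finite_algebraMap.mp hfin
  haveI : Etale (Spec.map σ) := hσ ▸ inferInstance
  haveI : Algebra.Etale Ω B := RingHom.etale_algebraMap.mp ((HasRingHomProperty.Spec_iff (P := @Etale)).1 ‹_›)
  haveI : IsArtinianRing B := isArtinian_of_tower Ω inferInstance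
  haveI := Fintype.ofFinite (PrimeSpectrum B)
  rw [← Scheme.Hom.finrank_comp_left_of_isIso Z.isoSpec.inv f, ← hσ,
    show Spec.map σ = Spec.map (CommRingCat.ofHom (algebraMap Ω B)) from rfl,
    Scheme.Hom.finrank_SpecMap_algebraMap, Module.rankAtStalk_eq_finrank_of_free]
  show Module.finrank Ω B = Nat.card Z
  rw [(Algebra.FormallyEtale.equivPiOfIsSepClosed Ω B).toLinearEquiv.finrank_eq, Module.finrank_fintype_fun_eq_card,
    ← Nat.card_eq_fintype_card]
  exact Nat.card_congr (Z.isoSpec.inv.homeomorph.toEquiv.trans (Equiv.refl _))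

/-- A geometric point over a given point. -/
theorem exists_geom {S : Scheme.{u}} (s : S) :
    ∃ (Ω : Type u) (_ : Field Ω) (_ : IsAlgClosed Ω) (g : Spec (CommRingCat.of Ω) ⟶ S), ∀ t, g t = s := by
  refine ⟨AlgebraicClosure (S.residueField s), inferInstance, inferInstance,
    Spec.map (CommRingCat.ofHom (algebraMap (S.residueField s) (AlgebraicClosure (S.residueField s)))) ≫
      S.fromSpecResidueField s, fun t => ?_⟩
  rw [Scheme.Hom.comp_apply, Scheme.fromSpecResidueField_apply]

/-- The rank is the number of points of a geometric fibre. -/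
theorem finrank_eq_card_fibre {X S : Scheme.{u}} (f : X ⟶ S) [IsFinite f] [Etale f] {Ω : Type u} [Field Ω]
    [IsSepClosed Ω] (g : Spec (CommRingCat.of Ω) ⟶ S) (t : Spec (CommRingCat.of Ω)) :
    f.finrank (g t) = Nat.card ↥(pullback f g) := by
  rw [← finrank_eq_card (pullback.snd f g) t, Scheme.Hom.finrank_pullback_snd]

/-- A section of a separated etale morphism is an open immersion with closed range. -/
theorem section_props {X Y : Scheme.{u}} (f : X ⟶ Y) [Etale f] [IsSeparated f] (s : Y ⟶ X) (hs : s ≫ f = 𝟙 Y) :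
    IsOpenImmersion s ∧ IsClosed (Set.range s) := by
  haveI : IsIso (s ≫ f) := hs ▸ inferInstance
  haveI : IsClosedImmersion s := IsClosedImmersion.of_comp s f
  haveI : Etale s := by
    haveI : Etale (s ≫ f) := hs ▸ inferInstance
    exact Etale.of_comp s f
  exact ⟨IsOpenImmersion.of_flat_of_mono s, s.isClosedEmbedding.isClosed_range⟩

end SplitCover
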